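import Groth.Agent.AlgSpLib.EtaleLift
import Groth.Agent.AlgSpLib.Bootstrap
import Groth.Agent.AlgSpLib.MorPack
import Groth.Agent.AlgSpLib.LocalST
import Groth.Agent.AlgSpLib.Sep

/-!
# Sections of an etale morphism glue along a two element closed covering
-/

set_option autoImplicit false
set_option backward.isDefEq.respectTransparency false
set_option backward.isDefEq.respectTransparency.types false

universe u

open CategoryTheory CategoryTheory.Limits AlgebraicGeometry AlgSp AlgSpLib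

namespace EtGlueModLib

variable {S : Scheme.{u}}

theorem preimage_range_subset {V T C D : Sp S} {t : T ⟶ V} {c : C ⟶ V} {d : D ⟶ V} {σ : C ⟶ T} {σ' : D ⟶ T}
    (hσ : σ ≫ t = c) (hσ' : σ' ≫ t = d)
    (hc : ∀ {Z : Sp S} (u : Z ⟶ C) (u' : Z ⟶ D), u ≫ c = u' ≫ d → u ≫ σ = u' ≫ σ') :
    Points.map (pullback.fst t d) ⁻¹' Set.range (Points.map σ) ⊆
      Set.range (Points.map (pullback.lift σ' (𝟙 D) (by rw [hσ', Category.id_comp]) : D ⟶ pullback t d)) := by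
  rintro τ ⟨u, hu⟩
  obtain ⟨ρ, -, hρ⟩ := exists_point_isPullback (IsPullback.of_hasPullback σ (pullback.fst t d)) u τ hu
  refine ⟨Points.map (pullback.snd σ (pullback.fst t d) ≫ pullback.snd t d) ρ, ?_⟩
  rw [← hρ, ← Points.map_comp]
  refine congrArg (Points.map · ρ) (pullback.hom_ext ?_ ?_)
  · rw [Category.assoc, pullback.lift_fst, ← pullback.condition]
    refine (hc _ _ ?_).symm
    rw [← hσ, pullback.condition_assoc, Category.assoc, ← pullback.condition]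
  · rw [Category.assoc, pullback.lift_snd, Category.comp_id]

theorem isOpen_range_section {V T D : Sp S} (hV : IsAlgSpace V) (hT : IsAlgSpace T) (hD : IsAlgSpace D)
    {t : T ⟶ V} (ht : IsEtaleMor t) {d : D ⟶ V} (s : D ⟶ pullback t d) (hs : s ≫ pullback.snd t d = 𝟙 D) :
    RepWith @IsOpenImmersion s ∧ IsOpen (Set.range (Points.map s)) := by
  haveI : Mono s := mono_of_mono_fac hs
  have hP := isAlgSpace_pullback hT hD hV t d
  have he : IsEtaleMor s := isEtaleMor_of_comp hP (by rw [hs]; exact isEtaleMor_id D)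
    (isEtaleMor_of_isPullback hT hV hD (IsPullback.of_hasPullback t d) ht)
  exact ⟨repWith_openImmersion_of_mono_etale hD hP s he, (isOpenMap_map_of_isEtaleMor hD he).isOpen_range⟩

theorem eq_of_cover {V T R : Sp S} (hV : IsAlgSpace V) (hT : IsAlgSpace T) {t : T ⟶ V} (ht : IsEtaleMor t)
    {x y : R ⟶ T} (e : x ≫ t = y ≫ t)
    (h : ∀ z : Points R, ∃ (N : Sp S) (q : N ⟶ R), z ∈ Set.range (Points.map q) ∧ q ≫ x = q ≫ y) : x = y := by
  refine eq_of_range_subset_of_openImmersion (openImmersion_diagonal_of_isEtaleMor hT hV ht) e ?_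
  rintro _ ⟨z, rfl⟩
  obtain ⟨N, q, ⟨n, rfl⟩, hq⟩ := h z
  refine ⟨Points.map (q ≫ x) n, ?_⟩
  rw [← Points.map_comp, ← Points.map_comp]
  refine congrArg (Points.map · n) (pullback.hom_ext ?_ ?_)
  · rw [Category.assoc, pullback.diagonal_fst, Category.comp_id, Category.assoc, pullback.lift_fst]
  · rw [Category.assoc, pullback.diagonal_snd, Category.comp_id, Category.assoc, pullback.lift_snd, hq]

theorem existsUnique_section {V T C₁ C₂ : Sp S} (hV : IsAlgSpace V) (hT : IsAlgSpace T) (hC₁ : IsAlgSpace C₁)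
    (hC₂ : IsAlgSpace C₂) {t : T ⟶ V} (ht : IsEtaleMor t) (c₁ : C₁ ⟶ V) (c₂ : C₂ ⟶ V) [Mono c₂]
    (hcl₁ : IsClosedMap (Points.map (pullback.fst t c₁))) (hcl₂ : IsClosedMap (Points.map (pullback.fst t c₂)))
    (hcov : ∀ x : Points V, x ∈ Set.range (Points.map c₁) ∨ x ∈ Set.range (Points.map c₂))
    (σ₁ : C₁ ⟶ T) (σ₂ : C₂ ⟶ T) (h₁ : σ₁ ≫ t = c₁) (h₂ : σ₂ ≫ t = c₂)
    (h11 : ∀ {Z : Sp S} (u u' : Z ⟶ C₁), u ≫ c₁ = u' ≫ c₁ → u ≫ σ₁ = u' ≫ σ₁)
    (h12 : ∀ {Z : Sp S} (u : Z ⟶ C₁) (u' : Z ⟶ C₂), u ≫ c₁ = u' ≫ c₂ → u ≫ σ₁ = u' ≫ σ₂) :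
    ∃! m : V ⟶ T, m ≫ t = 𝟙 V ∧ c₁ ≫ m = σ₁ ∧ c₂ ≫ m = σ₂ := by
  have h22 : ∀ {Z : Sp S} (u u' : Z ⟶ C₂), u ≫ c₂ = u' ≫ c₂ → u ≫ σ₂ = u' ≫ σ₂ := fun u u' e => by
    rw [(cancel_mono c₂).1 e]
  have h21 : ∀ {Z : Sp S} (u : Z ⟶ C₂) (u' : Z ⟶ C₁), u ≫ c₂ = u' ≫ c₁ → u ≫ σ₂ = u' ≫ σ₁ :=
    fun u u' e => (h12 u' u e.symm).symm
  let s₁ : C₁ ⟶ pullback t c₁ := pullback.lift σ₁ (𝟙 _) (by rw [h₁, Category.id_comp])
  let s₂ : C₂ ⟶ pullback t c₂ := pullback.lift σ₂ (𝟙 _) (by rw [h₂, Category.id_comp])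
  obtain ⟨hs₁, ho₁⟩ := isOpen_range_section hV hT hC₁ ht s₁ (pullback.lift_snd _ _ _)
  obtain ⟨hs₂, ho₂⟩ := isOpen_range_section hV hT hC₂ ht s₂ (pullback.lift_snd _ _ _)
  let G : Set (Points T) := Set.range (Points.map σ₁) ∪ Set.range (Points.map σ₂)
  have hG₁ : Points.map (pullback.fst t c₁) ⁻¹' G = Set.range (Points.map s₁) := by
    refine Set.Subset.antisymm (fun τ hτ => ?_) ?_
    · rcases hτ with h | h
      · exact preimage_range_subset h₁ h₁ h11 h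
      · exact preimage_range_subset h₂ h₁ h21 h
    · rintro _ ⟨u, rfl⟩
      refine Or.inl ⟨u, ?_⟩
      rw [← Points.map_comp, pullback.lift_fst]
  have hG₂ : Points.map (pullback.fst t c₂) ⁻¹' G = Set.range (Points.map s₂) := by
    refine Set.Subset.antisymm (fun τ hτ => ?_) ?_
    · rcases hτ with h | h
      · exact preimage_range_subset h₁ h₂ h12 h
      · exact preimage_range_subset h₂ h₂ h22 h
    · rintro _ ⟨u, rfl⟩
      refine Or.inr ⟨u, ?_⟩
      rw [← Points.map_comp, pullback.lift_fst]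
  have hsurj : ∀ τ : Points T, τ ∈ Set.range (Points.map (pullback.fst t c₁)) ∨
      τ ∈ Set.range (Points.map (pullback.fst t c₂)) := fun τ => by
    rcases hcov (Points.map t τ) with ⟨x, hx⟩ | ⟨x, hx⟩
    · obtain ⟨w, hw, -⟩ := exists_point_isPullback (IsPullback.of_hasPullback t c₁) τ x hx.symm
      exact Or.inl ⟨w, hw⟩
    · obtain ⟨w, hw, -⟩ := exists_point_isPullback (IsPullback.of_hasPullback t c₂) τ x hx.symm
      exact Or.inr ⟨w, hw⟩
  have hGo : IsOpen G := by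
    have hc : Gᶜ = Points.map (pullback.fst t c₁) '' (Set.range (Points.map s₁))ᶜ ∪
        Points.map (pullback.fst t c₂) '' (Set.range (Points.map s₂))ᶜ := by
      rw [← hG₁, ← hG₂, ← Set.preimage_compl, ← Set.preimage_compl, Set.image_preimage_eq_inter_range,
        Set.image_preimage_eq_inter_range, ← Set.inter_union_distrib_left]
      exact (Set.inter_eq_left.2 fun τ _ => hsurj τ).symm
    rw [← isClosed_compl_iff, hc]
    exact (hcl₁ _ ho₁.isClosed_compl).union (hcl₂ _ ho₂.isClosed_compl)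
  have hj := repWith_openSubι T hGo
  let j := openSubι T G
  have hGa : IsAlgSpace (openSub T G) := isAlgSpace_of_representable hT _ hj.rep
  let g : openSub T G ⟶ V := j ≫ t
  have hge : IsEtaleMor g := isEtaleMor_comp ht (isEtaleMor_of_openImmersion hj)
  obtain ⟨l₁, hl₁⟩ := (exists_factor_iff hj σ₁).2 (by rw [range_openSubι]; exact fun x hx => Or.inl hx)
  obtain ⟨l₂, hl₂⟩ := (exists_factor_iff hj σ₂).2 (by rw [range_openSubι]; exact fun x hx => Or.inr hx)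
  have hmem : ∀ {N : Sp S} (x : N ⟶ openSub T G) (z : Points N), Points.map (x ≫ j) z ∈ G := fun x z =>
    (Set.ext_iff.1 (range_openSubι T (W := G)) _).1 ⟨Points.map x z, (Points.map_comp _ _ _).symm⟩
  have hkey : ∀ {N : Sp S} (x : N ⟶ openSub T G),
      (∀ (u : N ⟶ C₁), u ≫ c₁ = (x ≫ j) ≫ t → x ≫ j = u ≫ σ₁) ∧
      (∀ (u : N ⟶ C₂), u ≫ c₂ = (x ≫ j) ≫ t → x ≫ j = u ≫ σ₂) := by
    intro N x
    constructor
    · intro u hu
      obtain ⟨r, hr⟩ := (exists_factor_iff hs₁ (pullback.lift (x ≫ j) u hu.symm)).2 (by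
        rintro _ ⟨z, rfl⟩
        rw [← hG₁, Set.mem_preimage, ← Points.map_comp, pullback.lift_fst]
        exact hmem x z)
      have hru : r = u := by
        have := congrArg (· ≫ pullback.snd t c₁) hr
        simpa [s₁] using this
      rw [← hru]
      have := congrArg (· ≫ pullback.fst t c₁) hr
      simpa [s₁] using this.symm
    · intro u hu
      obtain ⟨r, hr⟩ := (exists_factor_iff hs₂ (pullback.lift (x ≫ j) u hu.symm)).2 (by
        rintro _ ⟨z, rfl⟩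
        rw [← hG₂, Set.mem_preimage, ← Points.map_comp, pullback.lift_fst]
        exact hmem x z)
      have hru : r = u := by
        have := congrArg (· ≫ pullback.snd t c₂) hr
        simpa [s₂] using this
      rw [← hru]
      have := congrArg (· ≫ pullback.fst t c₂) hr
      simpa [s₂] using this.symm
  haveI hjm : Mono j := mono_of_openImmersion hj
  haveI : Mono g := by
    refine ⟨fun {Z} x y e => ?_⟩
    rw [← cancel_mono j]
    have e' : (x ≫ j) ≫ t = (y ≫ j) ≫ t := by simpa [g] using e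
    refine eq_of_cover hV hT ht e' fun z => ?_
    rcases hcov (Points.map ((x ≫ j) ≫ t) z) with ⟨w, hw⟩ | ⟨w, hw⟩
    · obtain ⟨n, hn, -⟩ := exists_point_isPullback (IsPullback.of_hasPullback ((x ≫ j) ≫ t) c₁) z w hw.symm
      refine ⟨_, pullback.fst ((x ≫ j) ≫ t) c₁, ⟨n, hn⟩, ?_⟩
      rw [← Category.assoc, ← Category.assoc,
        (hkey (pullback.fst ((x ≫ j) ≫ t) c₁ ≫ x)).1 (pullback.snd _ _)
          (by rw [← pullback.condition]; simp only [Category.assoc]),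
        (hkey (pullback.fst ((x ≫ j) ≫ t) c₁ ≫ y)).1 (pullback.snd _ _)
          (by rw [← pullback.condition]
              simpa only [Category.assoc] using congrArg (pullback.fst ((x ≫ j) ≫ t) c₁ ≫ ·) e')]
    · obtain ⟨n, hn, -⟩ := exists_point_isPullback (IsPullback.of_hasPullback ((x ≫ j) ≫ t) c₂) z w hw.symm
      refine ⟨_, pullback.fst ((x ≫ j) ≫ t) c₂, ⟨n, hn⟩, ?_⟩
      rw [← Category.assoc, ← Category.assoc,
        (hkey (pullback.fst ((x ≫ j) ≫ t) c₂ ≫ x)).2 (pullback.snd _ _)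
          (by rw [← pullback.condition]; simp only [Category.assoc]),
        (hkey (pullback.fst ((x ≫ j) ≫ t) c₂ ≫ y)).2 (pullback.snd _ _)
          (by rw [← pullback.condition]
              simpa only [Category.assoc] using congrArg (pullback.fst ((x ≫ j) ≫ t) c₂ ≫ ·) e')]
  have e₁ : l₁ ≫ g = c₁ := by rw [reassoc_of% hl₁, h₁]
  have e₂ : l₂ ≫ g = c₂ := by rw [reassoc_of% hl₂, h₂]
  haveI : IsIso g := isIso_of_mono_etale_surjective hGa hV g hge fun v => by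
    rcases hcov v with ⟨x, rfl⟩ | ⟨x, rfl⟩
    · exact ⟨Points.map l₁ x, by rw [← Points.map_comp, e₁]⟩
    · exact ⟨Points.map l₂ x, by rw [← Points.map_comp, e₂]⟩
  refine ⟨inv g ≫ j, ⟨by rw [Category.assoc]; exact IsIso.inv_hom_id g, ?_, ?_⟩, fun m hm => ?_⟩
  · rw [← e₁, Category.assoc, IsIso.hom_inv_id_assoc, hl₁]
  · rw [← e₂, Category.assoc, IsIso.hom_inv_id_assoc, hl₂]
  · have hi : (inv g ≫ j) ≫ t = 𝟙 V := by rw [Category.assoc]; exact IsIso.inv_hom_id g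
    refine eq_of_cover hV hT ht (hm.1.trans hi.symm) fun v => ?_
    rcases hcov v with h | h
    · exact ⟨C₁, c₁, h, by rw [hm.2.1, ← e₁, Category.assoc, IsIso.hom_inv_id_assoc, hl₁]⟩
    · exact ⟨C₂, c₂, h, by rw [hm.2.2, ← e₂, Category.assoc, IsIso.hom_inv_id_assoc, hl₂]⟩

/-- The first projection of a pullback along a base change of a universally closed map is closed. -/
theorem isClosedMap_fst_of_isPullback {Y Y' V V' T : Sp S} (hT : IsAlgSpace T) {f : Y' ⟶ Y}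
    (hf : IsUnivClosedMor f) {v : V ⟶ Y} {a : V' ⟶ V} {p : V' ⟶ Y'} (sq : IsPullback a p v f) (t : T ⟶ V) :
    IsClosedMap (Points.map (pullback.fst t a)) :=
  hf hT (t ≫ v) (pullback.snd t a ≫ p) (pullback.fst t a)
    ((IsPullback.of_hasPullback t a).flip.paste_horiz sq.flip)

theorem existsUnique_glue {Y Y' Z E U U' V₁ V₂ V₁' W₁ : Sp S} (hY : IsAlgSpace Y) (hY' : IsAlgSpace Y')
    (hZ : IsAlgSpace Z) (hV₁ : IsAlgSpace V₁) (hV₂ : IsAlgSpace V₂) {f : Y' ⟶ Y} (hf : IsUnivClosedMor f)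
    {i : Z ⟶ Y} (hi : RepWith @IsClosedImmersion i) {j : E ⟶ Y'} {g : E ⟶ Z} (hE : IsPullback j g f i)
    {jU : U ⟶ Y} (hjU : RepWith @IsOpenImmersion jU)
    (hU : Set.range (Points.map jU) = (Set.range (Points.map i))ᶜ) {fU : U' ⟶ U} {jU' : U' ⟶ Y'}
    (hU' : IsPullback jU' fU f jU) [IsIso fU] {v₁ : V₁ ⟶ Y} {v₂ : V₂ ⟶ Y} (hv₂ : IsEtaleMor v₂)
    {a₁ : V₁' ⟶ V₁} {p₁ : V₁' ⟶ Y'} (ha₁ : IsPullback a₁ p₁ v₁ f)
    {b₁ : W₁ ⟶ V₁} {q₁ : W₁ ⟶ Z} (hb₁ : IsPullback b₁ q₁ v₁ i)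
    (μ : V₁' ⟶ V₂) (hμ : μ ≫ v₂ = p₁ ≫ f) (ν : W₁ ⟶ V₂) (hν : ν ≫ v₂ = q₁ ≫ i)
    (hμν : ∀ {T : Sp S} (u : T ⟶ V₁') (u' : T ⟶ W₁), u ≫ a₁ = u' ≫ b₁ → u ≫ μ = u' ≫ ν) :
    ∃! m : V₁ ⟶ V₂, m ≫ v₂ = v₁ ∧ a₁ ≫ m = μ ∧ b₁ ≫ m = ν := by
  have hb : RepWith @IsClosedImmersion b₁ := repWith_of_isPullback hb₁.flip hi
  haveI : Mono b₁ := mono_of_repWith (fun g (_ : IsClosedImmersion g) => inferInstance) hb
  haveI : Mono i := mono_of_repWith (fun g (_ : IsClosedImmersion g) => inferInstance) hi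
  have hW₁ : IsAlgSpace W₁ := isAlgSpace_of_representable hV₁ _ hb.rep
  have hV₁' : IsAlgSpace V₁' := isAlgSpace_of_isPullback hV₁ hY' hY ha₁
  have sqT := IsPullback.of_hasPullback v₁ v₂
  have hT := isAlgSpace_pullback hV₁ hV₂ hY v₁ v₂
  have ht : IsEtaleMor (pullback.fst v₁ v₂) := isEtaleMor_of_isPullback hV₂ hY hV₁ sqT.flip hv₂
  let σ₁ : V₁' ⟶ pullback v₁ v₂ := pullback.lift a₁ μ (by rw [hμ, ha₁.w])
  let σ₂ : W₁ ⟶ pullback v₁ v₂ := pullback.lift b₁ ν (by rw [hν, hb₁.w])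
  have h₁ : σ₁ ≫ pullback.fst v₁ v₂ = a₁ := pullback.lift_fst _ _ _
  have h₂ : σ₂ ≫ pullback.fst v₁ v₂ = b₁ := pullback.lift_fst _ _ _
  have cls : IsClosedMap (Points.map (pullback.fst (pullback.fst v₁ v₂) a₁)) :=
    isClosedMap_fst_of_isPullback hT hf ha₁ _
  have cls' : IsClosedMap (Points.map (pullback.fst (pullback.fst v₁ v₂) b₁)) :=
    isClosedMap_fst_of_isPullback hT (isProperMor_of_closedImmersion hZ hY hi).2.2 hb₁ _
  have hUp : ∀ y : Points Y, y ∉ Set.range (Points.map i) → y ∈ Set.range (Points.map jU) := fun y hy => by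
    rw [hU]; exact hy
  have hcov : ∀ x : Points V₁, x ∈ Set.range (Points.map a₁) ∨ x ∈ Set.range (Points.map b₁) := fun x => by
    by_cases hx : Points.map v₁ x ∈ Set.range (Points.map i)
    · obtain ⟨z, hz⟩ := hx
      obtain ⟨w, hw, -⟩ := exists_point_isPullback hb₁ x z hz.symm
      exact Or.inr ⟨w, hw⟩
    · obtain ⟨y, hy⟩ := hUp _ hx
      obtain ⟨w, hw, -⟩ := exists_point_isPullback ha₁ x (Points.map (inv fU ≫ jU') y) (by
        rw [← hy, ← Points.map_comp, Category.assoc, hU'.w, IsIso.inv_hom_id_assoc])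
      exact Or.inl ⟨w, hw⟩
  have h12 : ∀ {T : Sp S} (u : T ⟶ V₁') (u' : T ⟶ W₁), u ≫ a₁ = u' ≫ b₁ → u ≫ σ₁ = u' ≫ σ₂ := fun u u' e => by
    apply pullback.hom_ext
    · rw [Category.assoc, Category.assoc, h₁, h₂, e]
    · rw [Category.assoc, Category.assoc, pullback.lift_snd, pullback.lift_snd, hμν u u' e]
  have h11 : ∀ {T : Sp S} (u u' : T ⟶ V₁'), u ≫ a₁ = u' ≫ a₁ → u ≫ σ₁ = u' ≫ σ₁ := by
    intro T u u' e
    refine eq_of_cover hV₁ hT ht (by rw [Category.assoc, Category.assoc, h₁, e]) fun z => ?_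
    by_cases hx : Points.map (u ≫ p₁ ≫ f) z ∈ Set.range (Points.map i)
    · obtain ⟨y, hy⟩ := hx
      obtain ⟨n, hn, -⟩ := exists_point_isPullback (IsPullback.of_hasPullback (u ≫ p₁ ≫ f) i) z y hy.symm
      refine ⟨_, pullback.fst (u ≫ p₁ ≫ f) i, ⟨n, hn⟩, ?_⟩
      let w := hb₁.lift (pullback.fst (u ≫ p₁ ≫ f) i ≫ u ≫ a₁) (pullback.snd (u ≫ p₁ ≫ f) i) (by
        rw [← pullback.condition]; simp only [Category.assoc, ha₁.w])
      have hw : w ≫ b₁ = pullback.fst (u ≫ p₁ ≫ f) i ≫ u ≫ a₁ := hb₁.lift_fst _ _ _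
      rw [← Category.assoc _ u σ₁, ← Category.assoc _ u' σ₁, h12 _ w (by rw [Category.assoc, hw]),
        h12 (pullback.fst (u ≫ p₁ ≫ f) i ≫ u') w (by rw [Category.assoc, ← e, hw])]
    · obtain ⟨y, hy⟩ := hUp _ hx
      obtain ⟨n, hn, -⟩ := exists_point_isPullback (IsPullback.of_hasPullback (u ≫ p₁ ≫ f) jU) z y hy.symm
      refine ⟨_, pullback.fst (u ≫ p₁ ≫ f) jU, ⟨n, hn⟩, ?_⟩
      have e' : u ≫ p₁ ≫ f = u' ≫ p₁ ≫ f := by
        rw [← ha₁.w, reassoc_of% e]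
      have k : ∀ (x : T ⟶ V₁'), x ≫ p₁ ≫ f = u ≫ p₁ ≫ f →
          pullback.fst (u ≫ p₁ ≫ f) jU ≫ x ≫ p₁ = pullback.snd (u ≫ p₁ ≫ f) jU ≫ inv fU ≫ jU' := by
        intro x hx
        have w' : (pullback.fst (u ≫ p₁ ≫ f) jU ≫ x ≫ p₁) ≫ f = pullback.snd (u ≫ p₁ ≫ f) jU ≫ jU := by
          simp only [Category.assoc, hx]
          exact pullback.condition
        have hl : hU'.lift _ _ w' = pullback.snd (u ≫ p₁ ≫ f) jU ≫ inv fU := by
          rw [← cancel_mono fU, hU'.lift_snd, Category.assoc, IsIso.inv_hom_id, Category.comp_id]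
        rw [← Category.assoc (pullback.snd _ _), ← hl, hU'.lift_fst]
      have : pullback.fst (u ≫ p₁ ≫ f) jU ≫ u = pullback.fst (u ≫ p₁ ≫ f) jU ≫ u' := ha₁.hom_ext
        (by simp only [Category.assoc, e])
        (by simp only [Category.assoc]; rw [k u rfl, k u' e'.symm])
      rw [reassoc_of% this]
  obtain ⟨m, ⟨hm, hm₁, hm₂⟩, huniq⟩ := existsUnique_section hV₁ hT hV₁' hW₁ ht a₁ b₁ cls cls' hcov σ₁ σ₂
    h₁ h₂ h11 h12
  refine ⟨m ≫ pullback.snd v₁ v₂, ⟨?_, ?_, ?_⟩, fun m' hm' => ?_⟩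
  · rw [Category.assoc, ← pullback.condition, reassoc_of% hm]
  · rw [reassoc_of% hm₁, pullback.lift_snd]
  · rw [reassoc_of% hm₂, pullback.lift_snd]
  · have := huniq (pullback.lift (𝟙 _) m' (by rw [Category.id_comp, hm'.1]))
      ⟨pullback.lift_fst _ _ _, pullback.hom_ext
        (by rw [Category.assoc, pullback.lift_fst, Category.comp_id, h₁])
        (by rw [Category.assoc, pullback.lift_snd, pullback.lift_snd, hm'.2.1]), pullback.hom_ext
        (by rw [Category.assoc, pullback.lift_fst, Category.comp_id, h₂])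
        (by rw [Category.assoc, pullback.lift_snd, pullback.lift_snd, hm'.2.2])⟩
    rw [← this, pullback.lift_snd]

end EtGlueModLib
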